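import Mathlib

/-!
Operator groups of coprime order on abelian groups, and central subgroups of exponent `p`.
-/

set_option autoImplicit false
set_option linter.unusedSectionVars false
set_option linter.style.haveILetI false

namespace Cfsg.Agent.Block.OneVanish

variable {V : Type*} [CommGroup V]

/-- An element killed by two coprime exponents. -/
theorem eq_one_of_coprime {A : Type*} [Group A] {a : A} {n : ℕ} (hn : a ^ n = 1)
    (h : (orderOf a).Coprime n) : a = 1 :=
  orderOf_eq_one_iff.1 (Nat.eq_one_of_dvd_coprimes h dvd_rfl (orderOf_dvd_of_pow_eq_one hn))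

/-- An abelian `p`-group of operators has a regular orbit on a group of elements of `p'`-order. -/
theorem exists_regular {p : ℕ} [Fact p.Prime] (R : Subgroup (MulAut V)) [Finite R]
    (hR : IsPGroup p R) (hab : ∀ r ∈ R, ∀ s ∈ R, r * s = s * r)
    (hV : ∀ v : V, (orderOf v).Coprime p) : ∃ v : V, ∀ r ∈ R, r v = v → r = 1 := by
  classical
  cases nonempty_fintype R
  set S : V → Subgroup R := fun v => (MulAction.stabilizer (MulAut V) v).subgroupOf R with hS
  have hmem : ∀ v (r : R), r ∈ S v ↔ (r : MulAut V) v = v := fun v r => Iff.rfl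
  have hex : ∃ n, ∃ v, Nat.card (S v) = n := ⟨_, 1, rfl⟩
  obtain ⟨v, hv⟩ := Nat.find_spec hex
  refine ⟨v, fun r hr hrv => ?_⟩
  by_contra hr1
  obtain ⟨w₀, hw₀⟩ : ∃ w, r w ≠ w := by
    by_contra hno
    push Not at hno
    exact hr1 (MulEquiv.ext hno)
  set C := S v with hC
  have hrC : (⟨r, hr⟩ : R) ∈ C := (hmem v _).2 hrv
  set n := Nat.card C with hn
  have hroot : ∀ {x y : V}, x ^ n = y ^ n → x = y := fun {x y} h => by
    refine mul_inv_eq_one.1 (eq_one_of_coprime (n := n)
      (by rw [mul_pow, inv_pow, h, mul_inv_cancel]) ?_)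
    obtain ⟨j, hj⟩ := IsPGroup.iff_card.1 (hR.to_subgroup C)
    rw [hn, hj]
    exact (hV _).pow_right j
  let E : V → V := fun x => ∏ u : C, ((u : R) : MulAut V) x
  have hEmul : ∀ x y, E (x * y) = E x * E y := fun x y => by simp [E, Finset.prod_mul_distrib]
  have hEfix : ∀ x, (∀ u ∈ C, (u : MulAut V) x = x) → E x = x ^ n := fun x hx => by
    simp only [E]
    rw [Finset.prod_congr rfl fun (u : C) _ => hx (u : R) u.2, Finset.prod_const, Finset.card_univ,
      hn, Nat.card_eq_fintype_card]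
  have hEcomm : ∀ g ∈ R, ∀ x, g (E x) = E (g x) := fun g hg x => by
    simp only [E, map_prod]
    refine Finset.prod_congr rfl fun u _ => ?_
    rw [← MulAut.mul_apply, ← MulAut.mul_apply, hab g hg _ (u : R).2]
  have hEinv : ∀ x, ∀ u ∈ C, (u : MulAut V) (E x) = E x := fun x u hu => by
    simp only [E, map_prod]
    refine Fintype.prod_equiv (Equiv.mulLeft (⟨u, hu⟩ : C)) _ _ fun w => ?_
    rw [← MulAut.mul_apply]
    rfl
  set w₁ := w₀ ^ n * (E w₀)⁻¹ with hw₁
  have hEw₁ : E w₁ = 1 := by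
    have h1 : E (w₀ ^ n * (E w₀)⁻¹) * E (E w₀) = E (w₀ ^ n) := by
      rw [← hEmul, inv_mul_cancel_right]
    have h2 : E (w₀ ^ n) = E w₀ ^ n := by simp [E, Finset.prod_pow]
    rw [hEfix _ (hEinv w₀), h2] at h1
    exact mul_eq_right.1 h1
  have hboth : S (v * w₁) ≤ C ⊓ S w₁ := by
    intro g hg
    have h1 := congrArg E ((hmem _ g).1 hg)
    rw [← hEcomm g g.2, hEmul, hEw₁, mul_one, hEfix v (fun u hu => (hmem v u).1 hu), map_pow] at h1
    have h2 := hroot h1
    refine ⟨(hmem v g).2 h2, (hmem w₁ g).2 ?_⟩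
    have h3 := (hmem _ g).1 hg
    rw [map_mul, h2] at h3
    exact mul_left_cancel h3
  have heq : S (v * w₁) = C := by
    refine Subgroup.eq_of_le_of_card_ge (hboth.trans inf_le_left) ?_
    rw [show Nat.card C = Nat.find hex from hv]
    exact Nat.find_le ⟨_, rfl⟩
  have hle : C ≤ S w₁ := heq ▸ hboth.trans inf_le_right
  have hw1 : w₁ = 1 :=
    hroot (by rw [one_pow, ← hEfix w₁ fun u hu => (hmem w₁ u).1 (hle hu), hEw₁])
  rw [hw₁, mul_inv_eq_one] at hw1
  refine hw₀ (hroot ?_)
  rw [← map_pow, hw1]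
  exact hEinv w₀ _ hrC

/-- An abelian group of exponent `p` acting without fixed points has order at most `p`. -/
theorem card_le_of_fpf {p : ℕ} [hp : Fact p.Prime] (R : Subgroup (MulAut V)) [Finite R]
    (hab : ∀ r ∈ R, ∀ s ∈ R, r * s = s * r) (hexp : ∀ r ∈ R, r ^ p = 1)
    (hfpf : ∀ r ∈ R, r ≠ 1 → ∀ v : V, r v = v → v = 1) (hV : ∀ v : V, (orderOf v).Coprime p) :
    Nat.card R ≤ p := by
  classical
  by_contra hlt
  obtain ⟨s, hs, hs1⟩ := (Subgroup.bot_or_exists_ne_one R).resolve_left fun h => by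
    rw [h, Subgroup.card_bot] at hlt
    exact hlt hp.out.one_lt.le
  obtain ⟨r, hr, hrs⟩ : ∃ r ∈ R, r ∉ Subgroup.zpowers s := by
    by_contra hno
    push Not at hno
    have h2 : Nat.card R ≤ Nat.card (Subgroup.zpowers s) := by
      haveI : Finite (Subgroup.zpowers s) := Finite.of_injective
        (Subgroup.inclusion (Subgroup.zpowers_le.2 hs)) (Subgroup.inclusion_injective _)
      exact Nat.card_le_card_of_injective _ (Subgroup.inclusion_injective (show R ≤ _ from hno))
    rw [Nat.card_zpowers, orderOf_eq_prime (hexp s hs) hs1] at h2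
    exact hlt h2
  have hsum : ∀ x ∈ R, x ≠ 1 → ∀ v : V, ∏ j ∈ Finset.range p, (x ^ j) v = 1 := by
    intro x hx hx1 v
    refine hfpf x hx hx1 _ ?_
    rw [map_prod]
    have h1 := Finset.prod_range_succ' (fun j => (x ^ j) v) p
    rw [Finset.prod_range_succ, hexp x hx, pow_zero] at h1
    refine Eq.trans ?_ (mul_right_cancel h1).symm
    exact Finset.prod_congr rfl fun j _ => by rw [← MulAut.mul_apply, pow_succ']
  obtain ⟨v, hv⟩ : ∃ v, s v ≠ v := by
    by_contra hno
    push Not at hno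
    exact hs1 (MulEquiv.ext hno)
  have hcomm : Commute r s := hab r hr s hs
  have hne : ∀ i : ℕ, r * s ^ i ≠ 1 := fun i h => hrs (by
    rw [eq_inv_of_mul_eq_one_left h]
    exact inv_mem (pow_mem (Subgroup.mem_zpowers s) i))
  have hall : ∏ i ∈ Finset.range p, ∏ j ∈ Finset.range p, ((r * s ^ i) ^ j) v = 1 :=
    Finset.prod_eq_one fun i _ => hsum _ (mul_mem hr (pow_mem hs i)) (hne i) v
  rw [Finset.prod_comm, ← Finset.mul_prod_erase _ _ (Finset.mem_range.2 hp.out.pos)] at hall
  have hrest : ∀ j ∈ (Finset.range p).erase 0,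
      ∏ i ∈ Finset.range p, ((r * s ^ i) ^ j) v = 1 := by
    intro j hj
    rw [Finset.mem_erase, Finset.mem_range] at hj
    have hsj : s ^ j ≠ 1 := fun h => by
      have hd := orderOf_dvd_of_pow_eq_one h
      rw [orderOf_eq_prime (hexp s hs) hs1] at hd
      exact absurd (Nat.le_of_dvd (Nat.pos_of_ne_zero hj.1) hd) (by omega)
    have e : ∀ i : ℕ, ((r * s ^ i) ^ j) v = (r ^ j) (((s ^ j) ^ i) v) := fun i => by
      rw [(hcomm.pow_right i).mul_pow, ← pow_mul, mul_comm i j, pow_mul, MulAut.mul_apply]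
    simp only [e]
    rw [← map_prod, hsum _ (pow_mem hs j) hsj, map_one]
  rw [Finset.prod_eq_one hrest, mul_one] at hall
  simp only [pow_zero, MulAut.one_apply, Finset.prod_const, Finset.card_range] at hall
  refine hv ?_
  rw [eq_one_of_coprime hall (hV v), map_one]

variable {G : Type*} [Group G]

/-- The central elements of a subgroup killed by `p`. -/
def omegaCenter (p : ℕ) (T : Subgroup G) : Subgroup G where
  carrier := {z | z ∈ T ∧ z ^ p = 1 ∧ ∀ y ∈ T, z * y = y * z}
  one_mem' := ⟨T.one_mem, one_pow p, fun y _ => by simp⟩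
  mul_mem' := fun {a b} ha hb => ⟨T.mul_mem ha.1 hb.1,
    by rw [(show Commute a b from ha.2.2 b hb.1).mul_pow, ha.2.1, hb.2.1, one_mul],
    fun y hy => by rw [mul_assoc, hb.2.2 y hy, ← mul_assoc, ha.2.2 y hy, mul_assoc]⟩
  inv_mem' := fun {a} ha => ⟨T.inv_mem ha.1, by rw [inv_pow, ha.2.1, inv_one],
    fun y hy => (show Commute a y from ha.2.2 y hy).inv_left.eq⟩

theorem omegaCenter_le (p : ℕ) (T : Subgroup G) : omegaCenter p T ≤ T := fun _ h => h.1

theorem omegaCenter_normal (p : ℕ) (T : Subgroup G) [hT : T.Normal] :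
    (omegaCenter p T).Normal := by
  refine ⟨fun z hz g => ⟨hT.conj_mem z hz.1 g, by rw [conj_pow, hz.2.1]; simp, fun y hy => ?_⟩⟩
  have h := hz.2.2 _ (hT.conj_mem y hy g⁻¹)
  rw [inv_inv] at h
  calc g * z * g⁻¹ * y = g * (z * (g⁻¹ * y * g)) * g⁻¹ := by group
    _ = g * (g⁻¹ * y * g * z) * g⁻¹ := by rw [h]
    _ = y * (g * z * g⁻¹) := by group

theorem omegaCenter_ne_bot [Finite G] {p : ℕ} [hp : Fact p.Prime] {T : Subgroup G}
    (hT : IsPGroup p T) (hne : T ≠ ⊥) : omegaCenter p T ≠ ⊥ := by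
  haveI : Nontrivial T := (Subgroup.nontrivial_iff_ne_bot T).2 hne
  haveI := hT.center_nontrivial
  obtain ⟨k, hk⟩ := IsPGroup.iff_card.1 (hT.to_subgroup (Subgroup.center T))
  have hk0 : k ≠ 0 := fun h => by
    rw [h, pow_zero] at hk
    exact absurd hk (Finite.one_lt_card (α := Subgroup.center T)).ne'
  obtain ⟨z, hz⟩ := exists_prime_orderOf_dvd_card' (G := Subgroup.center T) p
    (hk ▸ dvd_pow_self p hk0)
  intro hbot
  have h1 : ((z : T) : G) ∈ omegaCenter p T := ⟨(z : T).2,
    by rw [← hz]; exact congrArg (fun x : Subgroup.center T => ((x : T) : G)) (pow_orderOf_eq_one z),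
    fun y hy => (congrArg Subtype.val (Subgroup.mem_center_iff.1 z.2 ⟨y, hy⟩)).symm⟩
  rw [hbot, Subgroup.mem_bot] at h1
  rw [show z = 1 from Subtype.ext (Subtype.ext h1), orderOf_one] at hz
  exact hp.out.ne_one hz.symm

end Cfsg.Agent.Block.OneVanish
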