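import Cfsg.Agent.Lib.Block.OneVanish.Basic
import Cfsg.Agent.Lib.Char.TwoDegrees
import Cfsg.Agent.Lib.Grp.Cores
import Cfsg.Agent.Lib.Block.ThreeDeg.Basic

/-!
Solvable groups with a single class of `p`-singular vanishing elements have Sylow `p`-subgroups of
order at most `p` times the order of the `p`-core.
-/

set_option autoImplicit false
set_option linter.unusedSectionVars false
set_option linter.style.haveILetI false

namespace Cfsg.Agent.Block.OneVanish

open Cfsg Cfsg.Agent Cfsg.Agent.Char Cfsg.Agent.Block Cfsg.Agent.Char.TwoDeg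
open scoped commutatorElement

universe u

variable {G : Type u} [Group G] [Fintype G] {p : ℕ} [hp : Fact p.Prime]

/-- A vanishing element of order divisible by `p`. -/
def IsVP (p : ℕ) (g : G) : Prop := (∃ χ : IrrCharacter G, (χ : G → ℂ) g = 0) ∧ p ∣ orderOf g

/-- The subgroup generated by the `p`-elements of `M`. -/
def pGen (p : ℕ) (M : Subgroup G) : Subgroup G := Subgroup.closure {g | g ∈ M ∧ ∃ k : ℕ, g ^ p ^ k = 1}

theorem pGen_le (M : Subgroup G) : pGen p M ≤ M := (Subgroup.closure_le _).2 fun _ h => h.1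

theorem pGen_normal (M : Subgroup G) [hM : M.Normal] : (pGen p M).Normal := by
  refine ⟨fun x hx g => ?_⟩
  have h : pGen p M ≤ (pGen p M).comap (MulAut.conj g).toMonoidHom :=
    (Subgroup.closure_le _).2 fun y ⟨hy, k, hk⟩ => Subgroup.subset_closure
      ⟨hM.conj_mem y hy g, k, by
        show (MulAut.conj g y) ^ p ^ k = 1
        rw [← map_pow, hk, map_one]⟩
  exact h hx

/-- The subgroup generated by the `p'`-elements of `T`. -/
def qGen (p : ℕ) (T : Subgroup G) : Subgroup G := Subgroup.closure {g | g ∈ T ∧ (orderOf g).Coprime p}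

theorem qGen_le (T : Subgroup G) : qGen p T ≤ T := (Subgroup.closure_le _).2 fun _ h => h.1

theorem qGen_normal (T : Subgroup G) [hT : T.Normal] : (qGen p T).Normal := by
  refine ⟨fun x hx g => ?_⟩
  have h : qGen p T ≤ (qGen p T).comap (MulAut.conj g).toMonoidHom :=
    (Subgroup.closure_le _).2 fun y ⟨hy, hc⟩ => Subgroup.subset_closure
      ⟨hT.conj_mem y hy g, by
        show Nat.Coprime (orderOf (MulAut.conj g y)) p
        rw [MulEquiv.orderOf_eq]
        exact hc⟩
  exact h hx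

/-- Elements of `T` have a `p`-power in `qGen p T`. -/
theorem pow_mem_qGen (T : Subgroup G) {t : G} (ht : t ∈ T) :
    t ^ p ^ (orderOf t).factorization p ∈ qGen p T := by
  refine Subgroup.subset_closure ⟨pow_mem ht _, ?_⟩
  rw [orderOf_pow_of_dvd (pow_ne_zero _ hp.out.ne_zero) (Nat.ordProj_dvd _ _)]
  exact ((hp.out.coprime_iff_not_dvd.2 (Nat.not_dvd_ordCompl hp.out (orderOf_pos t).ne')).symm)

/-- Linear characters of a group generated by `p'`-elements have order prime to `p`. -/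
theorem orderOf_linear_qGen (T : Subgroup G) (l : qGen p T →* ℂˣ) : (orderOf l).Coprime p := by
  set n := Nat.card G / p ^ (Nat.card G).factorization p with hn
  have hpn : ¬ p ∣ n := Nat.not_dvd_ordCompl hp.out Nat.card_pos.ne'
  have h : l ^ n = 1 := by
    refine MonoidHom.ext fun x => ?_
    obtain ⟨x, hx⟩ := x
    induction hx using Subgroup.closure_induction with
    | mem y hy =>
      rw [MonoidHom.pow_apply, MonoidHom.one_apply, ← map_pow]
      convert map_one l
      refine Subtype.ext ?_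
      show y ^ n = 1
      refine orderOf_dvd_iff_pow_eq_one.1 ?_
      refine ((show Nat.Coprime (orderOf y) p from hy.2).pow_right
        ((Nat.card G).factorization p)).dvd_of_dvd_mul_left ?_
      rw [hn, Nat.ordProj_mul_ordCompl_eq_self]
      exact orderOf_dvd_natCard y
    | one => exact map_one (l ^ n)
    | mul a b ha hb iha ihb =>
      rw [show (⟨a * b, mul_mem ha hb⟩ : qGen p T) = ⟨a, ha⟩ * ⟨b, hb⟩ from rfl, map_mul, iha, ihb]
      simp
    | inv a ha iha =>
      rw [show (⟨a⁻¹, inv_mem ha⟩ : qGen p T) = ⟨a, ha⟩⁻¹ from rfl, map_inv, iha]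
      simp
  exact ((hp.out.coprime_iff_not_dvd.2 hpn).symm).coprime_dvd_left (orderOf_dvd_of_pow_eq_one h)

/-- Not all linear characters of `qGen p T` are invariant. -/
theorem exists_moved [Group.IsSolvable G] (M : Subgroup G) [M.Normal] [(pGen p M).Normal]
    [(qGen p (pGen p M)).Normal] (hnp : ¬ IsPGroup p (pGen p M)) :
    ∃ t ∈ pGen p M, ∃ l : qGen p (pGen p M) →* ℂˣ, cj t l ≠ l := by
  classical
  by_contra hno
  push Not at hno
  set T := pGen p M with hT
  set N := qGen p T with hN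
  have hNT : N ≤ T := qGen_le T
  haveI := Fintype.ofFinite T
  set W := N.subgroupOf T with hW
  haveI : W.Normal := Subgroup.Normal.subgroupOf inferInstance _
  haveI := Fintype.ofFinite W
  have hPW : IsPGroup p (T ⧸ W) := fun x => by
    induction x using QuotientGroup.induction_on with
    | _ t =>
      refine ⟨(orderOf (t : G)).factorization p, ?_⟩
      rw [← QuotientGroup.mk_pow, QuotientGroup.eq_one_iff, hW, Subgroup.mem_subgroupOf]
      exact pow_mem_qGen T t.2
  obtain ⟨k, hk⟩ := IsPGroup.iff_card.1 hPW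
  set e := Subgroup.subgroupOfEquivOfLe hNT with he
  have hall : ∀ l : N →* ℂˣ, l = 1 := by
    intro l
    set θ : W → ℂ := fun w => (l (e w) : ℂ) with hθ
    have hθi : IsIrrCharacter W θ := isIrr_linear (l.comp e.toMonoidHom)
    have hθ1 : θ 1 = ((1 : ℕ) : ℂ) := by simp [hθ]
    have hinv : ∀ (g : T) (w : W), θ ⟨g * w * g⁻¹,
        (inferInstance : W.Normal).conj_mem (w : T) w.2 g⟩ = θ w := fun g w => by
      have h1 := DFunLike.congr_fun (hno g g.2 l) (e w)
      rw [cj_apply] at h1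
      exact congrArg Units.val ((congrArg l (Subtype.ext rfl)).trans h1)
    have hordθ : orderOf θ ∣ orderOf l := by
      refine orderOf_dvd_of_pow_eq_one (funext fun w => ?_)
      rw [Pi.pow_apply, Pi.one_apply, hθ, ← Units.val_pow_eq_pow_val, ← MonoidHom.pow_apply,
        pow_orderOf_eq_one, MonoidHom.one_apply, Units.val_one]
    have hcopI : Nat.Coprime W.index (orderOf θ) := by
      rw [Subgroup.index_eq_card, hk]
      exact ((orderOf_linear_qGen T l).symm.coprime_dvd_right hordθ).pow_left k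
    have hord : Nat.Coprime W.index (orderOf (detChar θ) * 1) := by
      rw [mul_one, hθ, show detChar (fun w : W => (l (e w) : ℂ)) = fun w : W => (l (e w) : ℂ) from
        detChar_linear (l.comp e.toMonoidHom)]
      exact hcopI
    obtain ⟨χ, hχ, hres⟩ := Ext.exists_extension_of_witness hθi hinv hθ1
      fun r hr => Ext.witness_of_coprime hθi hord hr
    obtain ⟨L₀, hL₀⟩ := linearHom_of_isCharacter (IsIrr.isCharacter hχ) (by
      rw [show (1 : T) = ((1 : W) : T) from rfl, hres, hθ1, Nat.cast_one])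
    have hθL : (fun w : W => (L₀ (w : T) : ℂ)) = θ := funext fun w => by rw [← hres w, hL₀]
    obtain ⟨L, hL, hLo⟩ := Ext.exists_linear_adjust (N := W) L₀ rfl (by rw [hθL]; exact hcopI)
    have hLp : (orderOf L).Coprime p := by
      rw [hLo, hθL]
      exact (orderOf_linear_qGen T l).coprime_dvd_left hordθ
    have hL1 : L = 1 := by
      refine MonoidHom.ext fun x => ?_
      obtain ⟨x, hx⟩ := x
      induction hx using Subgroup.closure_induction with
      | mem y hy =>
        obtain ⟨j, hj⟩ := hy.2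
        refine orderOf_eq_one_iff.1 (Nat.eq_one_of_dvd_coprimes (hLp.pow_right j) ?_ ?_)
        · exact orderOf_dvd_of_pow_eq_one (by rw [← MonoidHom.pow_apply, pow_orderOf_eq_one]; rfl)
        · exact (orderOf_map_dvd L _).trans (orderOf_dvd_of_pow_eq_one (Subtype.ext hj))
      | one => exact map_one L
      | mul a b ha hb iha ihb =>
        rw [show (⟨a * b, mul_mem ha hb⟩ : T) = ⟨a, ha⟩ * ⟨b, hb⟩ from rfl, map_mul, iha, ihb]
        simp
      | inv a ha iha =>
        rw [show (⟨a⁻¹, inv_mem ha⟩ : T) = ⟨a, ha⟩⁻¹ from rfl, map_inv, iha]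
        simp
    refine MonoidHom.ext fun v => Units.ext ?_
    have h1 := congrFun hθL (e.symm v)
    simp only [hθ, MulEquiv.apply_symm_apply] at h1
    rw [← h1, ← hL, hL1]
    rfl
  have hbot : N = ⊥ := by
    have hc : commutator N = ⊤ := by
      rw [eq_top_iff]
      intro x _
      rw [← QuotientGroup.eq_one_iff]
      refine eq_one_of_forall_linear (fun a b => (Abelianization.commGroup N).mul_comm a b)
        fun l => ?_
      have := DFunLike.congr_fun (hall (l.comp (QuotientGroup.mk' (commutator N)))) x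
      exact this
    by_contra hne
    haveI : Nontrivial N := (Subgroup.nontrivial_iff_ne_bot _).2 hne
    exact (IsSolvable.commutator_lt_top_of_nontrivial N).ne hc
  refine hnp fun t => ⟨(orderOf (t : G)).factorization p, Subtype.ext ?_⟩
  have h := pow_mem_qGen (p := p) T t.2
  rw [← hN, hbot, Subgroup.mem_bot] at h
  simpa using h

/-- Elements of a normal subgroup moving every conjugate of a linear character vanish. -/
theorem vanish_of_moves (N : Subgroup G) [N.Normal] (l : N →* ℂˣ) {u : G}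
    (h : ∀ x : G, cj (x⁻¹ * u * x) l ≠ l) : ∃ χ : IrrCharacter G, (χ : G → ℂ) u = 0 := by
  classical
  haveI := Fintype.ofFinite N
  set θ : IrrCharacter N := ⟨fun k => (l k : ℂ), isIrr_linear l⟩
  obtain ⟨χ, hχ⟩ := exists_over N θ
  set T := inertia N (θ : N → ℂ) with hT
  haveI := Fintype.ofFinite T
  obtain ⟨ψ, -, hind, -⟩ := Corr.exists_correspondent N θ.2 hT
    (le_inertia N (IsIrr.classFun θ.2)) χ.2 hχ
  refine ⟨χ, ?_⟩
  rw [← hind]
  refine indFun_eq_zero_of_not_conj T ψ fun x hx => absurd ?_ (h x)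
  rw [← mem_stabL, stabL_eq_inertia]
  exact hx

/-- All vanishing `p`-singular elements are conjugate. -/
def OneClass (p : ℕ) (G : Type u) [Group G] : Prop := ∀ u v : G, IsVP p u → IsVP p v → IsConj u v

/-- The data of a `p`-generated normal subgroup, its `p'`-residual and the kernel of the action on
the linear characters of the latter. -/
structure Layer (p : ℕ) (G : Type u) [Group G] where
  T : Subgroup G
  N : Subgroup G
  C : Subgroup G
  normT : T.Normal
  normN : N.Normal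
  normC : C.Normal
  hN : N = qGen p T
  NC : N ≤ C
  CT : C ≤ T
  memC : ∀ t, t ∈ C ↔ (t ∈ T ∧ ∀ l : N →* ℂˣ, cj t l = l)
  proper : ∃ t ∈ T, t ∉ C

theorem exists_layer [Group.IsSolvable G] (M : Subgroup G) [M.Normal]
    (hnp : ¬ IsPGroup p (pGen p M)) : ∃ L : Layer p G, L.T = pGen p M := by
  haveI := pGen_normal (p := p) M
  haveI := qGen_normal (p := p) (pGen p M)
  set T := pGen p M
  set N := qGen p T
  obtain ⟨t, ht, l, hl⟩ := exists_moved M hnp
  let C : Subgroup G := T ⊓ ⨅ l : N →* ℂˣ, stabL l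
  have hmem : ∀ t, t ∈ C ↔ (t ∈ T ∧ ∀ l : N →* ℂˣ, cj t l = l) := fun t => by
    simp only [C, Subgroup.mem_inf, Subgroup.mem_iInf, mem_stabL]
  refine ⟨⟨T, N, C, inferInstance, inferInstance, ⟨fun x hx g => ?_⟩, rfl,
    fun n hn => (hmem n).2 ⟨qGen_le T hn, fun l => cj_mem_self hn l⟩, inf_le_left, hmem,
    ⟨t, ht, fun h => hl (((hmem t).1 h).2 l)⟩⟩, rfl⟩
  obtain ⟨hxT, hx⟩ := (hmem x).1 hx
  refine (hmem _).2 ⟨(inferInstance : T.Normal).conj_mem x hxT g, fun l => ?_⟩
  rw [← cj_cj, ← cj_cj, hx, cj_cj, mul_inv_cancel, cj_one]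

namespace Layer

variable (L : Layer p G)

theorem dvd_orderOf {t : G} (ht : t ∈ L.T) (htC : t ∉ L.C) : p ∣ orderOf t := by
  by_contra hd
  refine htC (L.NC ?_)
  rw [L.hN]
  exact Subgroup.subset_closure ⟨ht, (hp.out.coprime_iff_not_dvd.2 hd).symm⟩

theorem orderOf_linear (l : L.N →* ℂˣ) : (orderOf l).Coprime p := by
  obtain ⟨T, N, C, hT, hN', hC, hN, h1, h2, h3, h4⟩ := L
  subst hN
  exact orderOf_linear_qGen T l

/-- A normal abelian section above the kernel consists of vanishing elements and has order `p`. -/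
theorem section_card (h1 : OneClass p G) [L.C.Normal] (A : Subgroup G) [A.Normal] (hCA : L.C ≤ A)
    (hAT : A ≤ L.T) (hne : ∃ a ∈ A, a ∉ L.C) (hab : ∀ a ∈ A, ∀ b ∈ A, ⁅a, b⁆ ∈ L.C) :
    Nat.card (A.map (QuotientGroup.mk' L.C)) = p ∧ (∀ a ∈ A, a ∉ L.C → IsVP p a) := by
  classical
  haveI := L.normN
  let V := L.N →* ℂˣ
  let act : G → V ≃* V := fun g =>
    { toFun := fun l => cj g⁻¹ l
      invFun := fun l => cj g l
      left_inv := fun l => by simp [cj_cj, cj_one]
      right_inv := fun l => by simp [cj_cj, cj_one]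
      map_mul' := fun a b => cj_mul _ _ _ }
  let σ : G →* MulAut V :=
    { toFun := act
      map_one' := MulEquiv.ext fun l => by simp [act, cj_one]
      map_mul' := fun a b => MulEquiv.ext fun l => by
        show cj (a * b)⁻¹ l = cj a⁻¹ (cj b⁻¹ l)
        rw [cj_cj, mul_inv_rev] }
  have hσ : ∀ g (l : V), σ g l = cj g⁻¹ l := fun _ _ => rfl
  have hker : ∀ a ∈ L.T, σ a = 1 ↔ a ∈ L.C := by
    intro a ha
    constructor
    · intro h
      rw [← inv_mem_iff]
      exact (L.memC _).2 ⟨inv_mem ha, fun l => (hσ a l).symm.trans (by rw [h]; rfl)⟩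
    · intro h
      exact MulEquiv.ext fun l => ((L.memC _).1 (inv_mem h)).2 l
  have hidx : (A.map σ) ≤ A.map σ := le_rfl
  set R := A.map σ with hR
  haveI : Finite R := Finite.of_surjective (fun a : A => (⟨σ a, a, a.2, rfl⟩ : R)) fun r => by
    obtain ⟨_, a, ha, rfl⟩ := r
    exact ⟨⟨a, ha⟩, rfl⟩
  have hRab : ∀ r ∈ R, ∀ s ∈ R, r * s = s * r := by
    rintro _ ⟨a, ha, rfl⟩ _ ⟨b, hb, rfl⟩
    rw [← commutatorElement_eq_one_iff_mul_comm, ← map_commutatorElement]
    exact (hker _ (L.CT (hab a ha b hb))).2 (hab a ha b hb)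
  have hCp : ∀ t ∈ L.T, t ^ p ^ (orderOf t).factorization p ∈ L.C := fun t ht =>
    L.NC (L.hN ▸ pow_mem_qGen L.T ht)
  have hRp : IsPGroup p R := by
    rintro ⟨_, a, ha, rfl⟩
    refine ⟨(orderOf a).factorization p, Subtype.ext ?_⟩
    show σ a ^ _ = 1
    rw [← map_pow]
    exact (hker _ (pow_mem (hAT ha) _)).2 (hCp a (hAT ha))
  obtain ⟨v, hv⟩ := exists_regular R hRp hRab L.orderOf_linear
  have hvan : ∀ a ∈ A, a ∉ L.C → IsVP p a := by
    intro a ha haC
    refine ⟨vanish_of_moves L.N v fun x hx => haC ?_, L.dvd_orderOf (hAT ha) haC⟩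
    have hxA : x⁻¹ * a * x ∈ A := by simpa using (inferInstance : A.Normal).conj_mem a ha x⁻¹
    have h := hv _ (inv_mem (Subgroup.mem_map_of_mem σ hxA)) (by
      rw [← map_inv, hσ, inv_inv]; exact hx)
    rw [inv_eq_one, hker _ (hAT hxA)] at h
    simpa [mul_assoc] using L.normC.conj_mem _ h x
  refine ⟨?_, hvan⟩
  -- all elements outside the kernel are `p`-elements of one order
  have hord : ∀ a ∈ A, a ∉ L.C → ∃ k, orderOf a = p ^ k := by
    intro a ha haC
    set t := (orderOf a).factorization p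
    have hmt : p ^ t * (orderOf a / p ^ t) = orderOf a := Nat.ordProj_mul_ordCompl_eq_self _ _
    have hm : a ^ (orderOf a / p ^ t) ∉ L.C := by
      intro h
      refine haC ((QuotientGroup.eq_one_iff a).1 (orderOf_eq_one_iff.1 (Nat.eq_one_of_dvd_coprimes
        ((hp.out.coprime_iff_not_dvd.2
          (Nat.not_dvd_ordCompl hp.out (orderOf_pos a).ne')).pow_left t) ?_ ?_)))
      · refine orderOf_dvd_of_pow_eq_one ?_
        rw [← QuotientGroup.mk_pow, QuotientGroup.eq_one_iff]
        exact hCp a (hAT ha)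
      · refine orderOf_dvd_of_pow_eq_one ?_
        rw [← QuotientGroup.mk_pow, QuotientGroup.eq_one_iff]
        exact h
    obtain ⟨c, hc⟩ := isConj_iff.1 (h1 a _ (hvan a ha haC) (hvan _ (pow_mem ha _) hm))
    refine ⟨t, ?_⟩
    have he : orderOf a = orderOf (a ^ (orderOf a / p ^ t)) := by
      rw [← hc, ← MulAut.conj_apply, MulEquiv.orderOf_eq]
    rw [he]
    refine (orderOf_pow_of_dvd ?_ (Dvd.intro_left _ hmt)).trans ?_
    · exact (Nat.pos_of_ne_zero fun h => by rw [h, mul_zero] at hmt; exact (orderOf_pos a).ne hmt).ne'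
    · exact Nat.div_eq_of_eq_mul_left (Nat.pos_of_ne_zero fun h => by
        rw [h, mul_zero] at hmt; exact (orderOf_pos a).ne hmt) hmt.symm
  have hexp : ∀ r ∈ R, r ^ p = 1 := by
    rintro _ ⟨a, ha, rfl⟩
    rw [← map_pow, hker _ (pow_mem (hAT ha) _)]
    by_contra hap
    have haC : a ∉ L.C := fun h => hap (pow_mem h p)
    obtain ⟨c, hc⟩ := isConj_iff.1 (h1 a _ (hvan a ha haC) (hvan _ (pow_mem ha _) hap))
    have hdvd : p ∣ orderOf a := L.dvd_orderOf (hAT ha) haC
    have he : orderOf a = orderOf (a ^ p) := by rw [← hc, ← MulAut.conj_apply, MulEquiv.orderOf_eq]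
    rw [orderOf_pow_of_dvd hp.out.ne_zero hdvd] at he
    exact absurd he.symm (Nat.div_lt_self (orderOf_pos a) hp.out.one_lt).ne
  have hfpf : ∀ r ∈ R, r ≠ 1 → ∀ w : V, r w = w → w = 1 := by
    rintro _ ⟨a, ha, rfl⟩ hr w hw
    have haC : a ∉ L.C := fun h => hr ((hker a (hAT ha)).2 h)
    have hinv : cj a w = w := by
      conv_lhs => rw [← hw, hσ, cj_cj, inv_mul_cancel, cj_one]
    set Q := p ^ (Nat.card G).factorization p with hQ
    have hQ1 : ∀ b ∈ A, b ∉ L.C → b ^ Q = 1 := by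
      intro b hb hbC
      obtain ⟨k, hk⟩ := hord b hb hbC
      refine orderOf_dvd_iff_pow_eq_one.1 ?_
      rw [hk, hQ]
      exact pow_dvd_pow p ((hp.out.pow_dvd_iff_le_factorization Nat.card_pos.ne').1
        (hk ▸ orderOf_dvd_natCard b))
    refine MonoidHom.ext fun c => ?_
    have hstep : ∀ n : ℕ, ∃ d : L.N, ((c : G) * a) ^ n = d * a ^ n ∧ w d = w c ^ n := by
      intro n
      induction n with
      | zero => exact ⟨1, by simp, by simp⟩
      | succ n ih =>
        obtain ⟨d, hd, hwd⟩ := ih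
        refine ⟨c * conjEquivN L.N a d, ?_, ?_⟩
        · rw [pow_succ', hd, Subgroup.coe_mul, conjEquivN_apply, pow_succ']
          group
        · have h := DFunLike.congr_fun hinv d
          simp only [cj, MonoidHom.comp_apply, MulEquiv.coe_toMonoidHom] at h
          rw [map_mul, pow_succ', ← hwd, ← h]
          rfl
    obtain ⟨d, hd, hwd⟩ := hstep Q
    have hca : (c : G) * a ∉ L.C := fun h => haC (by simpa using mul_mem (inv_mem (L.NC c.2)) h)
    rw [hQ1 a ha haC, hQ1 _ (mul_mem (hCA (L.NC c.2)) ha) hca, mul_one] at hd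
    rw [show d = 1 from Subtype.ext hd.symm, map_one] at hwd
    refine orderOf_eq_one_iff.1 (Nat.eq_one_of_dvd_coprimes
      ((L.orderOf_linear w).pow_right ((Nat.card G).factorization p)) ?_
      (orderOf_dvd_of_pow_eq_one hwd.symm))
    exact orderOf_dvd_of_pow_eq_one (by rw [← MonoidHom.pow_apply, pow_orderOf_eq_one]; rfl)
  have hle := card_le_of_fpf R hRab hexp hfpf L.orderOf_linear
  have hcard : Nat.card R = Nat.card (A.map (QuotientGroup.mk' L.C)) := by
    rw [← Subgroup.relIndex_ker, ← Subgroup.relIndex_ker, QuotientGroup.ker_mk',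
      ← Subgroup.inf_relIndex_right σ.ker, ← Subgroup.inf_relIndex_right L.C]
    congr 1
    ext a
    simp only [Subgroup.mem_inf, MonoidHom.mem_ker]
    exact ⟨fun h => ⟨(hker a (hAT h.2)).1 h.1, h.2⟩, fun h => ⟨(hker a (hAT h.2)).2 h.1, h.2⟩⟩
  obtain ⟨a, ha, haC⟩ := hne
  obtain ⟨k, hk⟩ := IsPGroup.iff_card.1 hRp
  have hk1 : k ≠ 0 := by
    intro h
    rw [h, pow_zero, Subgroup.card_eq_one] at hk
    exact haC ((hker a (hAT ha)).1 (Subgroup.mem_bot.1 (hk ▸ Subgroup.mem_map_of_mem σ ha)))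
  rw [← hcard]
  exact le_antisymm hle (hk ▸ Nat.le_self_pow hk1 p)

/-- The whole section has order `p`. -/
theorem card_map (h1 : OneClass p G) [L.C.Normal] :
    Nat.card (L.T.map (QuotientGroup.mk' L.C)) = p ∧ ∃ a ∈ L.T, a ∉ L.C ∧ IsVP p a := by
  classical
  haveI := L.normT
  set π := QuotientGroup.mk' L.C with hπ
  have hπs : Function.Surjective π := QuotientGroup.mk'_surjective L.C
  set Tb := L.T.map π with hTb
  haveI : Tb.Normal := Subgroup.Normal.map inferInstance π hπs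
  have hπC : ∀ x, π x = 1 ↔ x ∈ L.C := fun x => QuotientGroup.eq_one_iff x
  have hTp : IsPGroup p Tb := by
    rintro ⟨_, t, ht, rfl⟩
    refine ⟨(orderOf t).factorization p, Subtype.ext ?_⟩
    show π t ^ _ = 1
    rw [← map_pow, hπC]
    exact L.NC (L.hN ▸ pow_mem_qGen L.T ht)
  have hTne : Tb ≠ ⊥ := fun h => by
    obtain ⟨t, ht, htC⟩ := L.proper
    exact htC ((hπC t).1 (Subgroup.mem_bot.1 (h ▸ Subgroup.mem_map_of_mem π ht)))
  have hcomap : Tb.comap π = L.T :=
    Subgroup.comap_map_eq_self (by rw [hπ, QuotientGroup.ker_mk']; exact L.CT)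
  have lift : ∀ Z : Subgroup (G ⧸ L.C), Z.Normal → Z ≤ Tb → Z ≠ ⊥ →
      (∀ x ∈ Z, ∀ y ∈ Z, x * y = y * x) →
      Nat.card Z = p ∧ ∀ a, π a ∈ Z → π a ≠ 1 → IsVP p a := by
    intro Z hZ hZT hZne hZab
    haveI := hZ
    haveI : (Z.comap π).Normal := hZ.comap π
    have h := L.section_card h1 (Z.comap π)
      (fun c hc => Subgroup.mem_comap.2 (by rw [(hπC c).2 hc]; exact one_mem Z))
      (hcomap ▸ Subgroup.comap_mono hZT) (by
        obtain ⟨z, hz, hz1⟩ := (Subgroup.bot_or_exists_ne_one Z).resolve_left hZne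
        obtain ⟨a, rfl⟩ := hπs z
        exact ⟨a, hz, fun h => hz1 ((hπC a).2 h)⟩)
      fun a ha b hb => (hπC _).1 (by
        rw [map_commutatorElement, commutatorElement_eq_one_iff_mul_comm]
        exact hZab _ ha _ hb)
    rw [Subgroup.map_comap_eq_self_of_surjective hπs] at h
    exact ⟨h.1, fun a ha h1 => h.2 a ha fun hc => h1 ((hπC a).2 hc)⟩
  set Zb := omegaCenter p Tb with hZb
  haveI : Zb.Normal := omegaCenter_normal p Tb
  obtain ⟨hZp, hZv⟩ := lift Zb inferInstance (omegaCenter_le p Tb) (omegaCenter_ne_bot hTp hTne)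
    fun x hx y hy => hx.2.2 y hy.1
  obtain ⟨z₀, hz₀, hz₀1⟩ := (Subgroup.bot_or_exists_ne_one Zb).resolve_left (omegaCenter_ne_bot hTp hTne)
  obtain ⟨a₀, rfl⟩ := hπs z₀
  have ha₀T : a₀ ∈ L.T := hcomap ▸ (show π a₀ ∈ Tb from hz₀.1)
  have ha₀ : IsVP p a₀ := hZv a₀ hz₀ hz₀1
  refine ⟨?_, a₀, ha₀T, fun h => hz₀1 ((hπC a₀).2 h), ha₀⟩
  suffices hTZ : Tb ≤ Zb by rw [le_antisymm hTZ (omegaCenter_le p Tb)]; exact hZp
  by_contra hnot
  -- the next central layer
  set f := QuotientGroup.mk' Zb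
  have hfs : Function.Surjective f := QuotientGroup.mk'_surjective Zb
  set Tf := Tb.map f
  haveI : Tf.Normal := Subgroup.Normal.map inferInstance f hfs
  have hTf : Tf ≠ ⊥ := fun h => hnot fun x hx =>
    (QuotientGroup.eq_one_iff x).1 (Subgroup.mem_bot.1 (h ▸ Subgroup.mem_map_of_mem f hx))
  haveI : (omegaCenter p Tf).Normal := omegaCenter_normal p Tf
  set W := (omegaCenter p Tf).comap f with hW
  haveI : W.Normal := (inferInstance : (omegaCenter p Tf).Normal).comap f
  have hZW : Zb ≤ W := fun x hx => Subgroup.mem_comap.2 (by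
    rw [show f x = 1 from (QuotientGroup.eq_one_iff x).2 hx]; exact one_mem _)
  have hWT : W ≤ Tb := by
    refine (Subgroup.comap_mono (omegaCenter_le p Tf)).trans ?_
    rw [Subgroup.comap_map_eq_self]
    rw [QuotientGroup.ker_mk']
    exact omegaCenter_le p Tb
  obtain ⟨w₀, hw₀, hw₀Z⟩ : ∃ w ∈ W, w ∉ Zb := by
    obtain ⟨q, hq, hq1⟩ := (Subgroup.bot_or_exists_ne_one _).resolve_left
      (omegaCenter_ne_bot (hTp.map f) hTf)
    obtain ⟨w, rfl⟩ := hfs q
    exact ⟨w, hq, fun h => hq1 ((QuotientGroup.eq_one_iff w).2 h)⟩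
  by_cases hWab : ∀ x ∈ W, ∀ y ∈ W, x * y = y * x
  · obtain ⟨hWp, -⟩ := lift W inferInstance hWT (fun h => hw₀Z (by
      rw [h, Subgroup.mem_bot] at hw₀
      rw [hw₀]; exact one_mem _)) hWab
    exact hw₀Z ((Subgroup.eq_of_le_of_card_ge hZW (by rw [hWp, hZp])).symm ▸ hw₀)
  push Not at hWab
  obtain ⟨u, hu, y, hy, huy⟩ := hWab
  set z := ⁅y, u⁆ with hz
  have hzZ : z ∈ Zb := by
    rw [← QuotientGroup.eq_one_iff]
    show f z = 1
    rw [hz, map_commutatorElement, commutatorElement_eq_one_iff_mul_comm]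
    exact hy.2.2 _ hu.1
  have hz1 : z ≠ 1 := fun h => huy (commutatorElement_eq_one_iff_mul_comm.1 h).symm
  haveI := Fintype.ofFinite (G ⧸ L.C)
  obtain ⟨η, hη⟩ : ∃ η : IrrCharacter (G ⧸ L.C), (η : G ⧸ L.C → ℂ) z ≠ (η : G ⧸ L.C → ℂ) 1 := by
    by_contra hno
    push Not at hno
    exact hz1 (ThreeDeg.eq_one_of_kills hno)
  haveI := Fintype.ofFinite Tb
  obtain ⟨c, hc, hdec⟩ := IsChar.exists_decomp_inner (IsChar.res (IsIrr.isCharacter η.2) Tb)
  have hval : ∀ φ : IrrCharacter Tb, c φ ≠ 0 → (φ : Tb → ℂ) ⟨u, hWT hu⟩ = 0 := by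
    intro φ hφ
    set zT : Tb := ⟨z, hzZ.1⟩ with hzT
    have hzc : zT ∈ Subgroup.center Tb :=
      Subgroup.mem_center_iff.2 fun t => Subtype.ext (hzZ.2.2 t t.2).symm
    obtain ⟨ω, -, hω⟩ := IsIrr.scalar_of_center φ.2 hzc
    have hω1 : ω ≠ 1 := by
      intro hone
      -- the kernel of one constituent meets `Zb` in a subgroup of order `p`, hence all kill `z`
      refine hη ?_
      have hkill : ∀ ψ : IrrCharacter Tb, c ψ ≠ 0 → (ψ : Tb → ℂ) zT = (ψ : Tb → ℂ) 1 := by
        intro ψ hψ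
        obtain ⟨g, hg⟩ := exists_conj_of_constituents Tb η.2 φ.2 ψ.2
          (by rw [hc φ]; exact_mod_cast hφ) (by rw [hc ψ]; exact_mod_cast hψ)
        have hgz : g * z * g⁻¹ ∈ Zb := (inferInstance : Zb.Normal).conj_mem z hzZ g
        obtain ⟨i, hi⟩ : ∃ i : ℕ, z ^ i = g * z * g⁻¹ := by
          have hord : orderOf z = p := orderOf_eq_prime hzZ.2.1 hz1
          have hzp : Subgroup.zpowers z = Zb := Subgroup.eq_of_le_of_card_ge
            (Subgroup.zpowers_le.2 hzZ) (by rw [Nat.card_zpowers, hord, hZp])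
          rw [← hzp] at hgz
          exact mem_powers_iff_mem_zpowers.2 hgz
        have hpow : ∀ (i : ℕ) (t : Tb), (φ : Tb → ℂ) (zT ^ i * t) = (φ : Tb → ℂ) t := by
          intro i
          induction i with
          | zero => simp
          | succ i ih => intro t; rw [pow_succ', mul_assoc, hω, hone, one_mul, ih]
        rw [← hg, conjN_apply, conjN_apply]
        have e1 : ∀ (h' : g * (zT : G ⧸ L.C) * g⁻¹ ∈ Tb),
            (⟨g * (zT : G ⧸ L.C) * g⁻¹, h'⟩ : Tb) = zT ^ i :=
          fun h' => Subtype.ext hi.symm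
        rw [e1, ← mul_one (zT ^ i), hpow]
        exact congrArg (φ : Tb → ℂ) (Subtype.ext (show (1 : G ⧸ L.C) = g * ((1 : Tb) : G ⧸ L.C) * g⁻¹ by
          rw [Subgroup.coe_one, mul_one, mul_inv_cancel]))
      show (fun t : Tb => (η : G ⧸ L.C → ℂ) t) zT = (η : G ⧸ L.C → ℂ) ((1 : Tb) : G ⧸ L.C)
      refine (congrFun hdec zT).trans ?_
      refine Eq.trans ?_ (congrFun hdec 1).symm
      rw [sum_irr_apply, sum_irr_apply]
      refine Finset.sum_congr rfl fun ψ _ => ?_
      by_cases h0 : c ψ = 0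
      · simp [h0]
      · rw [hkill ψ h0]
    have e : (zT * ⟨u, hWT hu⟩ : Tb) = ⟨y, hWT hy⟩ * ⟨u, hWT hu⟩ * (⟨y, hWT hy⟩ : Tb)⁻¹ :=
      Subtype.ext (by simp [hzT, hz, commutatorElement_def])
    have h2 := hω ⟨u, hWT hu⟩
    rw [e, IsIrr.classFun φ.2] at h2
    have h3 : (ω - 1) * (φ : Tb → ℂ) ⟨u, hWT hu⟩ = 0 := by rw [sub_mul, ← h2, one_mul, sub_self]
    exact (mul_eq_zero.1 h3).resolve_left (sub_ne_zero.2 hω1)
  have hηu : (η : G ⧸ L.C → ℂ) u = 0 := by
    show (fun t : Tb => (η : G ⧸ L.C → ℂ) t) ⟨u, hWT hu⟩ = 0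
    refine (congrFun hdec _).trans ?_
    rw [sum_irr_apply]
    refine Finset.sum_eq_zero fun φ _ => ?_
    by_cases h0 : c φ = 0
    · simp [h0]
    · rw [hval φ h0, mul_zero]
  obtain ⟨u₀, hu₀⟩ := hπs u
  have huT : u₀ ∈ L.T := hcomap ▸ (show π u₀ ∈ Tb from hu₀ ▸ hWT hu)
  have huZ : u ∉ Zb := fun h => hz1 (commutatorElement_eq_one_iff_mul_comm.2
    (h.2.2 y (hWT hy)).symm)
  have huV : IsVP p u₀ := ⟨⟨⟨_, IsIrr.comp_surjective π hπs η.2⟩, by
    show (η : G ⧸ L.C → ℂ) (π u₀) = 0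
    rw [hu₀]
    exact hηu⟩, L.dvd_orderOf huT fun h => huZ (by rw [← hu₀, (hπC u₀).2 h]; exact one_mem _)⟩
  obtain ⟨g, hg⟩ := isConj_iff.1 (h1 a₀ u₀ ha₀ huV)
  refine huZ ?_
  rw [← hu₀, ← hg, map_mul, map_mul, map_inv]
  exact (inferInstance : Zb.Normal).conj_mem _ hz₀ (π g)

end Layer

/-- The Sylow bound. -/
theorem main [Group.IsSolvable G] (h1 : OneClass p G) (P : Sylow p G) :
    Nat.card (P : Subgroup G) ≤ p * Nat.card (Cfsg.pCore p G) := by
  classical
  have hPT : (P : Subgroup G) ≤ pGen p ⊤ := fun x hx => by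
    obtain ⟨k, hk⟩ := P.isPGroup' ⟨x, hx⟩
    exact Subgroup.subset_closure ⟨trivial, k, congrArg Subtype.val hk⟩
  haveI := pGen_normal (p := p) (⊤ : Subgroup G)
  by_cases hpg : IsPGroup p (pGen p (⊤ : Subgroup G))
  · calc Nat.card (P : Subgroup G) ≤ Nat.card (Cfsg.pCore p G) :=
          Nat.le_of_dvd Nat.card_pos
            (Subgroup.card_dvd_of_le (hPT.trans (Grp.le_pCore inferInstance hpg)))
      _ ≤ p * Nat.card (Cfsg.pCore p G) := Nat.le_mul_of_pos_left _ hp.out.pos
  obtain ⟨L, hL⟩ := exists_layer (⊤ : Subgroup G) hpg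
  haveI := L.normC
  obtain ⟨hcard, a₁, -, ha₁C, ha₁⟩ := L.card_map h1
  -- the kernel has no vanishing element, so its `p`-elements lie in the core
  haveI := pGen_normal (p := p) L.C
  have hC : IsPGroup p (pGen p L.C) := by
    by_contra hnp
    obtain ⟨L', hL'⟩ := exists_layer L.C hnp
    haveI := L'.normC
    obtain ⟨-, b, hb, -, hbv⟩ := L'.card_map h1
    rw [hL'] at hb
    obtain ⟨g, hg⟩ := isConj_iff.1 (h1 b a₁ hbv ha₁)
    exact ha₁C (hg ▸ L.normC.conj_mem b (pGen_le L.C hb) g)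
  set π := QuotientGroup.mk' L.C
  have hker : ((P : Subgroup G) ⊓ L.C) ≤ Cfsg.pCore p G := by
    rintro x ⟨hxP, hxC⟩
    obtain ⟨k, hk⟩ := P.isPGroup' ⟨x, hxP⟩
    exact Grp.le_pCore inferInstance hC
      (Subgroup.subset_closure ⟨hxC, k, congrArg Subtype.val hk⟩)
  have e1 : Nat.card ((P : Subgroup G).map π) * Nat.card ((P : Subgroup G) ⊓ L.C : Subgroup G) =
      Nat.card (P : Subgroup G) := by
    rw [← Subgroup.relIndex_ker, QuotientGroup.ker_mk', ← Subgroup.inf_relIndex_right,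
      inf_comm L.C, mul_comm, ← Subgroup.relIndex_bot_left, Subgroup.relIndex_mul_relIndex _ _ _
      bot_le inf_le_left, Subgroup.relIndex_bot_left]
  rw [← e1]
  refine Nat.mul_le_mul ?_ (Nat.le_of_dvd Nat.card_pos (Subgroup.card_dvd_of_le hker))
  refine le_of_le_of_eq ?_ hcard
  exact Nat.le_of_dvd Nat.card_pos
    (Subgroup.card_dvd_of_le (Subgroup.map_mono (hL ▸ hPT)))

end Cfsg.Agent.Block.OneVanish
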