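import Cfsg.Agent.Lib.Block.OneVanish.Main

/-!
Solvable groups all whose `p`-singular vanishing elements have one order: the Sylow `p`-subgroups
modulo the `p`-core have order at most `p`.
-/

set_option autoImplicit false
set_option linter.unusedSectionVars false
set_option linter.style.haveILetI false

namespace Cfsg.Agent.Block.OneVanish

open Cfsg Cfsg.Agent Cfsg.Agent.Char Cfsg.Agent.Block Cfsg.Agent.Char.TwoDeg
open scoped commutatorElement

universe u

variable {G : Type u} [Group G] [Fintype G] {p : ℕ} [hp : Fact p.Prime]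

/-- All `p`-singular vanishing elements have order `b`. -/
def SameOrd (p b : ℕ) (G : Type u) [Group G] : Prop := ∀ u : G, IsVP p u → orderOf u = b

theorem SameOrd.not_pow {b : ℕ} (h : SameOrd p b G) {y : G} (hy : IsVP p y)
    (hyp : IsVP p (y ^ p)) : False := by
  have h1 := h _ hyp
  rw [orderOf_pow_of_dvd hp.out.ne_zero hy.2, ← h y hy] at h1
  exact (Nat.div_lt_self (orderOf_pos y) hp.out.one_lt).ne h1

theorem pow_eq_one_of_card {H : Type*} [Group H] {S : Subgroup H} {n : ℕ} (h : Nat.card S = n)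
    {x : H} (hx : x ∈ S) : x ^ n = 1 := by
  subst h
  exact congrArg Subtype.val (pow_card_eq_one' (x := (⟨x, hx⟩ : S)))

theorem mapped_comm (C A : Subgroup G) [C.Normal]
    (h : ∀ x ∈ A.map (QuotientGroup.mk' C), ∀ y ∈ A.map (QuotientGroup.mk' C), x * y = y * x) :
    ∀ a ∈ A, ∀ b ∈ A, ⁅a, b⁆ ∈ C := fun a ha b hb => by
  rw [← QuotientGroup.eq_one_iff]
  show QuotientGroup.mk' C ⁅a, b⁆ = 1
  rw [map_commutatorElement, commutatorElement_eq_one_iff_mul_comm]
  exact h _ (Subgroup.mem_map_of_mem _ ha) _ (Subgroup.mem_map_of_mem _ hb)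

namespace Layer

variable (L : Layer p G)

theorem pow_mem_C {t : G} (ht : t ∈ L.T) : t ^ p ^ (orderOf t).factorization p ∈ L.C :=
  L.NC (L.hN ▸ pow_mem_qGen L.T ht)

/-- Outside the kernel, normal sections that are abelian consist of vanishing elements. -/
theorem section_van (A : Subgroup G) [A.Normal] (hAT : A ≤ L.T)
    (hab : ∀ a ∈ A, ∀ b ∈ A, ⁅a, b⁆ ∈ L.C) : ∀ a ∈ A, a ∉ L.C → IsVP p a := by
  classical
  haveI := L.normN
  let V := L.N →* ℂˣ
  let act : G → V ≃* V := fun g =>
    { toFun := fun l => cj g⁻¹ l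
      invFun := fun l => cj g l
      left_inv := fun l => by simp [cj_cj, cj_one]
      right_inv := fun l => by simp [cj_cj, cj_one]
      map_mul' := fun a b => cj_mul _ _ _ }
  let σ : G →* MulAut V :=
    { toFun := act
      map_one' := MulEquiv.ext fun l => by simp [act, cj_one]
      map_mul' := fun a b => MulEquiv.ext fun l => by
        show cj (a * b)⁻¹ l = cj a⁻¹ (cj b⁻¹ l)
        rw [cj_cj, mul_inv_rev] }
  have hσ : ∀ g (l : V), σ g l = cj g⁻¹ l := fun _ _ => rfl
  have hker : ∀ a ∈ L.T, σ a = 1 ↔ a ∈ L.C := by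
    intro a ha
    constructor
    · intro h
      rw [← inv_mem_iff]
      exact (L.memC _).2 ⟨inv_mem ha, fun l => (hσ a l).symm.trans (by rw [h]; rfl)⟩
    · intro h
      exact MulEquiv.ext fun l => ((L.memC _).1 (inv_mem h)).2 l
  set R := A.map σ with hR
  haveI : Finite R := Finite.of_surjective (fun a : A => (⟨σ a, a, a.2, rfl⟩ : R)) fun r => by
    obtain ⟨_, a, ha, rfl⟩ := r
    exact ⟨⟨a, ha⟩, rfl⟩
  have hRab : ∀ r ∈ R, ∀ s ∈ R, r * s = s * r := by
    rintro _ ⟨a, ha, rfl⟩ _ ⟨b, hb, rfl⟩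
    rw [← commutatorElement_eq_one_iff_mul_comm, ← map_commutatorElement]
    exact (hker _ (L.CT (hab a ha b hb))).2 (hab a ha b hb)
  have hRp : IsPGroup p R := by
    rintro ⟨_, a, ha, rfl⟩
    refine ⟨(orderOf a).factorization p, Subtype.ext ?_⟩
    show σ a ^ _ = 1
    rw [← map_pow]
    exact (hker _ (pow_mem (hAT ha) _)).2 (L.pow_mem_C (hAT ha))
  obtain ⟨v, hv⟩ := exists_regular R hRp hRab L.orderOf_linear
  intro a ha haC
  refine ⟨vanish_of_moves L.N v fun x hx => haC ?_, L.dvd_orderOf (hAT ha) haC⟩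
  have hxA : x⁻¹ * a * x ∈ A := by simpa using (inferInstance : A.Normal).conj_mem a ha x⁻¹
  have h := hv _ (inv_mem (Subgroup.mem_map_of_mem σ hxA)) (by
    rw [← map_inv, hσ, inv_inv]; exact hx)
  rw [inv_eq_one, hker _ (hAT hxA)] at h
  simpa [mul_assoc] using L.normC.conj_mem _ h x

/-- An abelian section of exponent `p` whose elements outside the kernel have `p`-power order has
order at most `p`. -/
theorem fpf_bound [L.C.Normal] (A : Subgroup G) (hCA : L.C ≤ A)
    (hab : ∀ a ∈ A, ∀ b ∈ A, ⁅a, b⁆ ∈ L.C)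
    (hord : ∀ y ∈ A, y ∉ L.C → ∃ k, orderOf y = p ^ k) (hexp : ∀ y ∈ A, y ^ p ∈ L.C) :
    Nat.card (A.map (QuotientGroup.mk' L.C)) ≤ p := by
  classical
  haveI := L.normN
  let V := L.N →* ℂˣ
  let act : G → V ≃* V := fun g =>
    { toFun := fun l => cj g⁻¹ l
      invFun := fun l => cj g l
      left_inv := fun l => by simp [cj_cj, cj_one]
      right_inv := fun l => by simp [cj_cj, cj_one]
      map_mul' := fun a b => cj_mul _ _ _ }
  let σ : G →* MulAut V :=
    { toFun := act
      map_one' := MulEquiv.ext fun l => by simp [act, cj_one]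
      map_mul' := fun a b => MulEquiv.ext fun l => by
        show cj (a * b)⁻¹ l = cj a⁻¹ (cj b⁻¹ l)
        rw [cj_cj, mul_inv_rev] }
  have hσ : ∀ g (l : V), σ g l = cj g⁻¹ l := fun _ _ => rfl
  have hone : ∀ c ∈ L.C, σ c = 1 := fun c hc =>
    MulEquiv.ext fun l => ((L.memC _).1 (inv_mem hc)).2 l
  set Q := p ^ (Nat.card G).factorization p with hQ
  have hQ1 : ∀ b ∈ A, b ∉ L.C → b ^ Q = 1 := by
    intro b hb hbC
    obtain ⟨k, hk⟩ := hord b hb hbC
    refine orderOf_dvd_iff_pow_eq_one.1 ?_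
    rw [hk, hQ]
    exact pow_dvd_pow p ((hp.out.pow_dvd_iff_le_factorization Nat.card_pos.ne').1
      (hk ▸ orderOf_dvd_natCard b))
  have hfree : ∀ a ∈ A, a ∉ L.C → ∀ w : V, σ a w = w → w = 1 := by
    intro a ha haC w hw
    have hinv : cj a w = w := by
      conv_lhs => rw [← hw, hσ, cj_cj, inv_mul_cancel, cj_one]
    refine MonoidHom.ext fun c => ?_
    have hstep : ∀ n : ℕ, ∃ d : L.N, ((c : G) * a) ^ n = d * a ^ n ∧ w d = w c ^ n := by
      intro n
      induction n with
      | zero => exact ⟨1, by simp, by simp⟩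
      | succ n ih =>
        obtain ⟨d, hd, hwd⟩ := ih
        refine ⟨c * conjEquivN L.N a d, ?_, ?_⟩
        · rw [pow_succ', hd, Subgroup.coe_mul, conjEquivN_apply, pow_succ']
          group
        · have h := DFunLike.congr_fun hinv d
          simp only [cj, MonoidHom.comp_apply, MulEquiv.coe_toMonoidHom] at h
          rw [map_mul, pow_succ', ← hwd, ← h]
          rfl
    obtain ⟨d, hd, hwd⟩ := hstep Q
    have hca : (c : G) * a ∉ L.C := fun h => haC (by simpa using mul_mem (inv_mem (L.NC c.2)) h)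
    rw [hQ1 a ha haC, hQ1 _ (mul_mem (hCA (L.NC c.2)) ha) hca, mul_one] at hd
    rw [show d = 1 from Subtype.ext hd.symm, map_one] at hwd
    refine orderOf_eq_one_iff.1 (Nat.eq_one_of_dvd_coprimes
      ((L.orderOf_linear w).pow_right ((Nat.card G).factorization p)) ?_
      (orderOf_dvd_of_pow_eq_one hwd.symm))
    exact orderOf_dvd_of_pow_eq_one (by rw [← MonoidHom.pow_apply, pow_orderOf_eq_one]; rfl)
  obtain ⟨t, ht, htC⟩ := L.proper
  obtain ⟨w₀, hw₀⟩ : ∃ w : V, cj t w ≠ w := by
    by_contra hno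
    push Not at hno
    exact htC ((L.memC t).2 ⟨ht, hno⟩)
  have hker : ∀ a ∈ A, σ a = 1 ↔ a ∈ L.C := fun a ha => by
    refine ⟨fun h => ?_, hone a⟩
    by_contra haC
    have h1 := hfree a ha haC
    simp only [h, MulAut.one_apply, forall_true_left] at h1
    exact hw₀ (by rw [h1 w₀, h1 (cj t 1)])
  set R := A.map σ with hR
  haveI : Finite R := Finite.of_surjective (fun a : A => (⟨σ a, a, a.2, rfl⟩ : R)) fun r => by
    obtain ⟨_, a, ha, rfl⟩ := r
    exact ⟨⟨a, ha⟩, rfl⟩
  have hle := card_le_of_fpf R (by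
      rintro _ ⟨a, ha, rfl⟩ _ ⟨b, hb, rfl⟩
      rw [← commutatorElement_eq_one_iff_mul_comm, ← map_commutatorElement]
      exact hone _ (hab a ha b hb)) (by
      rintro _ ⟨a, ha, rfl⟩
      rw [← map_pow]
      exact hone _ (hexp a ha)) (by
      rintro _ ⟨a, ha, rfl⟩ hr w hw
      exact hfree a ha (fun h => hr (hone a h)) w hw) L.orderOf_linear
  refine le_of_eq_of_le ?_ hle
  rw [← Subgroup.relIndex_ker, ← Subgroup.relIndex_ker, QuotientGroup.ker_mk',
    ← Subgroup.inf_relIndex_right L.C, ← Subgroup.inf_relIndex_right σ.ker]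
  congr 1
  ext a
  simp only [Subgroup.mem_inf, MonoidHom.mem_ker]
  exact ⟨fun h => ⟨(hker a h.2).2 h.1, h.2⟩, fun h => ⟨(hker a h.2).1 h.1, h.2⟩⟩

/-- The layer has order `p`, all elements outside the kernel vanish, and the common order is a
power of `p`. -/
theorem same_order_layer {b : ℕ} (h : SameOrd p b G) [L.C.Normal] :
    Nat.card (L.T.map (QuotientGroup.mk' L.C)) = p ∧ (∀ a ∈ L.T, a ∉ L.C → IsVP p a) ∧
      ∃ k, b = p ^ k := by
  classical
  haveI := L.normT
  set π := QuotientGroup.mk' L.C with hπ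
  have hπs : Function.Surjective π := QuotientGroup.mk'_surjective L.C
  set Tb := L.T.map π with hTb
  haveI : Tb.Normal := Subgroup.Normal.map inferInstance π hπs
  have hπC : ∀ x, π x = 1 ↔ x ∈ L.C := fun x => QuotientGroup.eq_one_iff x
  have hTp : IsPGroup p Tb := by
    rintro ⟨_, t, ht, rfl⟩
    refine ⟨(orderOf t).factorization p, Subtype.ext ?_⟩
    show π t ^ _ = 1
    rw [← map_pow, hπC]
    exact L.pow_mem_C ht
  have hTne : Tb ≠ ⊥ := fun h => by
    obtain ⟨t, ht, htC⟩ := L.proper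
    exact htC ((hπC t).1 (Subgroup.mem_bot.1 (h ▸ Subgroup.mem_map_of_mem π ht)))
  have hcomap : Tb.comap π = L.T :=
    Subgroup.comap_map_eq_self (by rw [hπ, QuotientGroup.ker_mk']; exact L.CT)
  have hCcomap : ∀ Z : Subgroup (G ⧸ L.C), L.C ≤ Z.comap π := fun Z c hc =>
    Subgroup.mem_comap.2 (by rw [(hπC c).2 hc]; exact one_mem Z)
  have lift : ∀ Z : Subgroup (G ⧸ L.C), Z.Normal → Z ≤ Tb →
      (∀ x ∈ Z, ∀ y ∈ Z, x * y = y * x) → ∀ a, π a ∈ Z → π a ≠ 1 → IsVP p a := by
    intro Z hZ hZT hZab a ha ha1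
    haveI : (Z.comap π).Normal := hZ.comap π
    exact L.section_van (Z.comap π) (hcomap ▸ Subgroup.comap_mono hZT)
      (mapped_comm _ _ (by
        rw [Subgroup.map_comap_eq_self_of_surjective hπs]; exact hZab)) a ha
      fun hc => ha1 ((hπC a).2 hc)
  set Zb := omegaCenter p Tb with hZb
  haveI : Zb.Normal := omegaCenter_normal p Tb
  have hZv := lift Zb inferInstance (omegaCenter_le p Tb) fun x hx y hy => hx.2.2 y hy.1
  obtain ⟨z₀, hz₀, hz₀1⟩ :=
    (Subgroup.bot_or_exists_ne_one Zb).resolve_left (omegaCenter_ne_bot hTp hTne)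
  obtain ⟨a₀, rfl⟩ := hπs z₀
  have ha₀T : a₀ ∈ L.T := hcomap ▸ (show π a₀ ∈ Tb from hz₀.1)
  -- the common order is a power of `p`
  have hb : ∃ k, b = p ^ k := by
    set t := (orderOf a₀).factorization p
    have hmt : p ^ t * (orderOf a₀ / p ^ t) = orderOf a₀ := Nat.ordProj_mul_ordCompl_eq_self _ _
    have hm : π (a₀ ^ (orderOf a₀ / p ^ t)) ≠ 1 := by
      intro h1
      rw [map_pow] at h1
      refine hz₀1 (orderOf_eq_one_iff.1 (Nat.eq_one_of_dvd_coprimes
        ((hp.out.coprime_iff_not_dvd.2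
          (Nat.not_dvd_ordCompl hp.out (orderOf_pos a₀).ne')).pow_left t) ?_
          (orderOf_dvd_of_pow_eq_one h1)))
      refine orderOf_dvd_of_pow_eq_one ?_
      rw [← map_pow, hπC]
      exact L.pow_mem_C ha₀T
    refine ⟨t, ?_⟩
    have hpos : 0 < orderOf a₀ / p ^ t := Nat.pos_of_ne_zero fun h0 => by
      rw [h0, mul_zero] at hmt; exact (orderOf_pos a₀).ne hmt
    rw [← h _ (hZv _ (by rw [map_pow]; exact pow_mem hz₀ _) hm),
      orderOf_pow_of_dvd hpos.ne' (Dvd.intro_left _ hmt)]
    exact Nat.div_eq_of_eq_mul_left hpos hmt.symm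
  have hord : ∀ u, IsVP p u → ∃ k, orderOf u = p ^ k := fun u hu => by
    obtain ⟨k, hk⟩ := hb
    exact ⟨k, (h u hu).trans hk⟩
  have bound : ∀ Z : Subgroup (G ⧸ L.C), (∀ x ∈ Z, ∀ y ∈ Z, x * y = y * x) →
      (∀ x ∈ Z, x ^ p = 1) → (∀ a, π a ∈ Z → π a ≠ 1 → IsVP p a) → Nat.card Z ≤ p := by
    intro Z hab he hv
    have h1 := L.fpf_bound (Z.comap π) (hCcomap Z)
      (mapped_comm _ _ (by rw [Subgroup.map_comap_eq_self_of_surjective hπs]; exact hab))
      (fun y hy hyC => hord y (hv y hy fun h1 => hyC ((hπC y).1 h1)))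
      fun y hy => (hπC _).1 (by rw [map_pow]; exact he _ hy)
    rwa [Subgroup.map_comap_eq_self_of_surjective hπs] at h1
  have hZp : Nat.card Zb ≤ p := bound Zb (fun x hx y hy => hx.2.2 y hy.1) (fun x hx => hx.2.1) hZv
  have hz₀o : orderOf (π a₀) = p := orderOf_eq_prime hz₀.2.1 hz₀1
  have hz₀Z : Subgroup.zpowers (π a₀) = Zb := Subgroup.eq_of_le_of_card_ge
    (Subgroup.zpowers_le.2 hz₀) (by rw [Nat.card_zpowers, hz₀o]; exact hZp)
  have hTZ : Tb ≤ Zb := by
    by_contra hnot
    -- the next central layer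
    set f := QuotientGroup.mk' Zb
    have hfs : Function.Surjective f := QuotientGroup.mk'_surjective Zb
    set Tf := Tb.map f
    haveI : Tf.Normal := Subgroup.Normal.map inferInstance f hfs
    have hTf : Tf ≠ ⊥ := fun h => hnot fun x hx =>
      (QuotientGroup.eq_one_iff x).1 (Subgroup.mem_bot.1 (h ▸ Subgroup.mem_map_of_mem f hx))
    haveI : (omegaCenter p Tf).Normal := omegaCenter_normal p Tf
    set W := (omegaCenter p Tf).comap f with hW
    haveI : W.Normal := (inferInstance : (omegaCenter p Tf).Normal).comap f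
    have hWT : W ≤ Tb := by
      refine (Subgroup.comap_mono (omegaCenter_le p Tf)).trans ?_
      rw [Subgroup.comap_map_eq_self]
      rw [QuotientGroup.ker_mk']
      exact omegaCenter_le p Tb
    have hWp : ∀ w ∈ W, w ^ p ∈ Zb := fun w hw => (QuotientGroup.eq_one_iff _).1 (by
      show f (w ^ p) = 1
      rw [map_pow]; exact hw.2.1)
    obtain ⟨w₀, hw₀, hw₀Z⟩ : ∃ w ∈ W, w ∉ Zb := by
      obtain ⟨q, hq, hq1⟩ := (Subgroup.bot_or_exists_ne_one _).resolve_left
        (omegaCenter_ne_bot (hTp.map f) hTf)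
      obtain ⟨w, rfl⟩ := hfs q
      exact ⟨w, hq, fun h => hq1 ((QuotientGroup.eq_one_iff w).2 h)⟩
    by_cases hWab : ∀ x ∈ W, ∀ y ∈ W, x * y = y * x
    · have hWv := lift W inferInstance hWT hWab
      have hWe : ∀ x ∈ W, x ^ p = 1 := by
        intro x hx
        by_contra hx1
        obtain ⟨a, rfl⟩ := hπs x
        exact h.not_pow (hWv a hx fun h1 => hx1 (by rw [h1, one_pow]))
          (hWv (a ^ p) (by rw [map_pow]; exact pow_mem hx p) (by rw [map_pow]; exact hx1))
      have hcW := bound W hWab hWe hWv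
      have hle : Zb ≤ W := fun x hx => Subgroup.mem_comap.2 (by
        rw [show f x = 1 from (QuotientGroup.eq_one_iff x).2 hx]; exact one_mem _)
      refine hw₀Z ((Subgroup.eq_of_le_of_card_ge hle ?_).symm ▸ hw₀)
      rw [← hz₀Z, Nat.card_zpowers, hz₀o]
      exact hcW
    push Not at hWab
    obtain ⟨u, hu, y, hy, huy⟩ := hWab
    set z := ⁅y, u⁆ with hz
    have hzZ : z ∈ Zb := by
      rw [← QuotientGroup.eq_one_iff]
      show f z = 1
      rw [hz, map_commutatorElement, commutatorElement_eq_one_iff_mul_comm]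
      exact hy.2.2 _ hu.1
    have hz1 : z ≠ 1 := fun h => huy (commutatorElement_eq_one_iff_mul_comm.1 h).symm
    -- the abelian section generated by `u` and the centre
    set A := Subgroup.zpowers u ⊔ Zb with hA
    have hAW : A ≤ W := sup_le (Subgroup.zpowers_le.2 hu) fun x hx => Subgroup.mem_comap.2 (by
      rw [show f x = 1 from (QuotientGroup.eq_one_iff x).2 hx]; exact one_mem _)
    have huc : ∀ x ∈ A, x * u = u * x := by
      intro x hx
      obtain ⟨_, ⟨i, rfl⟩, c, hc, rfl⟩ := Subgroup.mem_sup_of_normal_right.1 hx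
      exact ((Commute.refl u).zpow_left i).mul_left (show Commute c u from hc.2.2 u (hWT hu))
    have hAab : ∀ x ∈ A, ∀ x' ∈ A, x * x' = x' * x := by
      intro x hx x' hx'
      obtain ⟨_, ⟨i, rfl⟩, c, hc, rfl⟩ := Subgroup.mem_sup_of_normal_right.1 hx'
      exact ((show Commute x u from huc x hx).zpow_right i).mul_right
        (show Commute x c from (hc.2.2 x (hWT (hAW hx))).symm)
    haveI := Fintype.ofFinite (G ⧸ L.C)
    have hvan : ∀ x ∈ W, x ∉ Zb → ⁅y, x⁆ ≠ 1 → ∀ a, π a = x → IsVP p a := by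
      intro x hx hxZ hyx a hax
      have hzxZ : ⁅y, x⁆ ∈ Zb := by
        rw [← QuotientGroup.eq_one_iff]
        show f ⁅y, x⁆ = 1
        rw [map_commutatorElement, commutatorElement_eq_one_iff_mul_comm]
        exact hy.2.2 _ hx.1
      obtain ⟨η, hη⟩ : ∃ η : IrrCharacter (G ⧸ L.C), (η : G ⧸ L.C → ℂ) ⁅y, x⁆ ≠
          (η : G ⧸ L.C → ℂ) 1 := by
        by_contra hno
        push Not at hno
        exact hyx (ThreeDeg.eq_one_of_kills hno)
      haveI := Fintype.ofFinite Tb
      obtain ⟨c, hc, hdec⟩ := IsChar.exists_decomp_inner (IsChar.res (IsIrr.isCharacter η.2) Tb)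
      set zT : Tb := ⟨⁅y, x⁆, hzxZ.1⟩ with hzT
      have hzc : zT ∈ Subgroup.center Tb :=
        Subgroup.mem_center_iff.2 fun t => Subtype.ext (hzxZ.2.2 t t.2).symm
      have hval : ∀ φ : IrrCharacter Tb, c φ ≠ 0 → (φ : Tb → ℂ) ⟨x, hWT hx⟩ = 0 := by
        intro φ hφ
        obtain ⟨ω, -, hω⟩ := IsIrr.scalar_of_center φ.2 hzc
        have hω1 : ω ≠ 1 := by
          intro hone
          refine hη ?_
          have hkill : ∀ ψ : IrrCharacter Tb, c ψ ≠ 0 →
              (ψ : Tb → ℂ) zT = (ψ : Tb → ℂ) 1 := by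
            intro ψ hψ
            obtain ⟨g, hg⟩ := exists_conj_of_constituents Tb η.2 φ.2 ψ.2
              (by rw [hc φ]; exact_mod_cast hφ) (by rw [hc ψ]; exact_mod_cast hψ)
            have hgz : g * ⁅y, x⁆ * g⁻¹ ∈ Zb :=
              (inferInstance : Zb.Normal).conj_mem _ hzxZ g
            obtain ⟨i, hi⟩ : ∃ i : ℕ, ⁅y, x⁆ ^ i = g * ⁅y, x⁆ * g⁻¹ := by
              have hord : orderOf ⁅y, x⁆ = p := orderOf_eq_prime hzxZ.2.1 hyx
              have hzp : Subgroup.zpowers ⁅y, x⁆ = Zb := Subgroup.eq_of_le_of_card_ge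
                (Subgroup.zpowers_le.2 hzxZ) (by rw [Nat.card_zpowers, hord]; exact hZp)
              rw [← hzp] at hgz
              exact mem_powers_iff_mem_zpowers.2 hgz
            have hpow : ∀ (i : ℕ) (t : Tb), (φ : Tb → ℂ) (zT ^ i * t) = (φ : Tb → ℂ) t := by
              intro i
              induction i with
              | zero => simp
              | succ i ih => intro t; rw [pow_succ', mul_assoc, hω, hone, one_mul, ih]
            rw [← hg, conjN_apply, conjN_apply]
            have e1 : ∀ (h' : g * (zT : G ⧸ L.C) * g⁻¹ ∈ Tb),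
                (⟨g * (zT : G ⧸ L.C) * g⁻¹, h'⟩ : Tb) = zT ^ i :=
              fun h' => Subtype.ext hi.symm
            rw [e1, ← mul_one (zT ^ i), hpow]
            exact congrArg (φ : Tb → ℂ) (Subtype.ext (show (1 : G ⧸ L.C) =
                g * ((1 : Tb) : G ⧸ L.C) * g⁻¹ by
              rw [Subgroup.coe_one, mul_one, mul_inv_cancel]))
          show (fun t : Tb => (η : G ⧸ L.C → ℂ) t) zT = (η : G ⧸ L.C → ℂ) ((1 : Tb) : G ⧸ L.C)
          refine (congrFun hdec zT).trans ?_
          refine Eq.trans ?_ (congrFun hdec 1).symm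
          rw [sum_irr_apply, sum_irr_apply]
          refine Finset.sum_congr rfl fun ψ _ => ?_
          by_cases h0 : c ψ = 0
          · simp [h0]
          · rw [hkill ψ h0]
        have e : (zT * ⟨x, hWT hx⟩ : Tb) =
            ⟨y, hWT hy⟩ * ⟨x, hWT hx⟩ * (⟨y, hWT hy⟩ : Tb)⁻¹ :=
          Subtype.ext (by simp [hzT, commutatorElement_def])
        have h2 := hω ⟨x, hWT hx⟩
        rw [e, IsIrr.classFun φ.2] at h2
        have h3 : (ω - 1) * (φ : Tb → ℂ) ⟨x, hWT hx⟩ = 0 := by
          rw [sub_mul, ← h2, one_mul, sub_self]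
        exact (mul_eq_zero.1 h3).resolve_left (sub_ne_zero.2 hω1)
      have hηx : (η : G ⧸ L.C → ℂ) x = 0 := by
        show (fun t : Tb => (η : G ⧸ L.C → ℂ) t) ⟨x, hWT hx⟩ = 0
        refine (congrFun hdec _).trans ?_
        rw [sum_irr_apply]
        refine Finset.sum_eq_zero fun φ _ => ?_
        by_cases h0 : c φ = 0
        · simp [h0]
        · rw [hval φ h0, mul_zero]
      have haT : a ∈ L.T := hcomap ▸ (show π a ∈ Tb from hax ▸ hWT hx)
      refine ⟨⟨⟨_, IsIrr.comp_surjective π hπs η.2⟩, ?_⟩, L.dvd_orderOf haT fun h => hxZ (by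
        rw [← hax, (hπC a).2 h]; exact one_mem _)⟩
      show (η : G ⧸ L.C → ℂ) (π a) = 0
      rw [hax]; exact hηx
    have hAv : ∀ a, π a ∈ A → π a ≠ 1 → IsVP p a := by
      intro a ha ha1
      by_cases haZ : π a ∈ Zb
      · exact hZv a haZ ha1
      refine hvan _ (hAW ha) haZ (fun hyc => ?_) a rfl
      obtain ⟨_, ⟨i, rfl⟩, c, hc, hic⟩ := Subgroup.mem_sup_of_normal_right.1 ha
      refine haZ ?_
      rw [← hic]
      refine mul_mem ?_ hc
      have hcy : Commute y (u ^ i) := by
        have h1 : Commute y (u ^ i * c) := by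
          rw [hic]; exact commutatorElement_eq_one_iff_mul_comm.1 hyc
        have h2 : Commute y c := (hc.2.2 y (hWT hy)).symm
        simpa using h1.mul_right h2.inv_right
      -- `u` does not commute with `y`, so `p` divides the exponent
      by_cases hi : (p : ℤ) ∣ i
      · obtain ⟨j, rfl⟩ := hi
        show u ^ ((p : ℤ) * j) ∈ Zb
        rw [zpow_mul, zpow_natCast]
        exact zpow_mem (hWp u hu) j
      · exfalso
        obtain ⟨s, t, hst⟩ : IsCoprime (p : ℤ) i :=
          ((Nat.prime_iff_prime_int.1 hp.out).coprime_iff_not_dvd).2 hi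
        refine huy ((Commute.symm ?_ : Commute u y).eq)
        have h3 : Commute y (u ^ (p : ℤ)) := by
          rw [zpow_natCast]
          exact ((hWp u hu).2.2 y (hWT hy)).symm
        have h4 := (h3.zpow_right s).mul_right (hcy.zpow_right t)
        rwa [← zpow_mul, ← zpow_mul, ← zpow_add, mul_comm (p : ℤ), mul_comm i, hst, zpow_one] at h4
    have hAe : ∀ x ∈ A, x ^ p = 1 := by
      intro x hx
      by_contra hx1
      obtain ⟨a, rfl⟩ := hπs x
      exact h.not_pow (hAv a hx fun h1 => hx1 (by rw [h1, one_pow]))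
        (hAv (a ^ p) (by rw [map_pow]; exact pow_mem hx p) (by rw [map_pow]; exact hx1))
    have hcA := bound A hAab hAe hAv
    have huZ : u ∉ Zb := fun hz' => huy (hz'.2.2 y (hWT hy))
    refine huZ ?_
    have hAZ : Zb = A := Subgroup.eq_of_le_of_card_ge le_sup_right (by
      rw [← hz₀Z, Nat.card_zpowers, hz₀o]; exact hcA)
    exact hAZ ▸ Subgroup.mem_sup_left (Subgroup.mem_zpowers u)
  have hTe : Tb = Zb := le_antisymm hTZ (omegaCenter_le p Tb)
  refine ⟨?_, fun a ha haC => ?_, hb⟩
  · rw [hTe, ← hz₀Z, Nat.card_zpowers, hz₀o]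
  · exact hZv a (hTe ▸ Subgroup.mem_map_of_mem π ha) fun h1 => haC ((hπC a).1 h1)

end Layer

/-- The Sylow bound modulo the core. -/
theorem same_order_main [Group.IsSolvable G] {b : ℕ} (h : SameOrd p b G) (P : Sylow p G) :
    Nat.card ((P : Subgroup G).map (QuotientGroup.mk' (Cfsg.pCore p G))) ≤ p := by
  classical
  rw [← Subgroup.relIndex_ker, QuotientGroup.ker_mk']
  suffices hmain : Nat.card (P : Subgroup G) ≤ p * Nat.card (Cfsg.pCore p G) by
    have hle : Cfsg.pCore p G ≤ (P : Subgroup G) := Grp.pCore_le_sylow P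
    have e := Subgroup.relIndex_mul_relIndex ⊥ (Cfsg.pCore p G) (P : Subgroup G) bot_le hle
    rw [Subgroup.relIndex_bot_left, Subgroup.relIndex_bot_left] at e
    rw [← e, mul_comm p] at hmain
    exact Nat.le_of_mul_le_mul_left hmain Nat.card_pos
  have hPT : (P : Subgroup G) ≤ pGen p ⊤ := fun x hx => by
    obtain ⟨k, hk⟩ := P.isPGroup' ⟨x, hx⟩
    exact Subgroup.subset_closure ⟨trivial, k, congrArg Subtype.val hk⟩
  haveI := pGen_normal (p := p) (⊤ : Subgroup G)
  by_cases hpg : IsPGroup p (pGen p (⊤ : Subgroup G))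
  · calc Nat.card (P : Subgroup G) ≤ Nat.card (Cfsg.pCore p G) :=
          Nat.le_of_dvd Nat.card_pos
            (Subgroup.card_dvd_of_le (hPT.trans (Grp.le_pCore inferInstance hpg)))
      _ ≤ p * Nat.card (Cfsg.pCore p G) := Nat.le_mul_of_pos_left _ hp.out.pos
  obtain ⟨L, hL⟩ := exists_layer (⊤ : Subgroup G) hpg
  haveI := L.normC
  obtain ⟨hcard, hLv, k, hk⟩ := L.same_order_layer h
  haveI := pGen_normal (p := p) L.C
  have hC : IsPGroup p (pGen p L.C) := by
    by_contra hnp
    obtain ⟨L', hL'⟩ := exists_layer L.C hnp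
    haveI := L'.normC
    haveI := L'.normT
    obtain ⟨hcard', hLv', -⟩ := L'.same_order_layer h
    set π := QuotientGroup.mk' L'.C with hπ
    set N := L'.T.map π with hN
    haveI : N.Normal := Subgroup.Normal.map inferInstance π (QuotientGroup.mk'_surjective _)
    have hTC : L'.T ≤ L.C := hL' ▸ pGen_le L.C
    -- a `p`-element outside the first kernel
    obtain ⟨a, ⟨-, j, hj⟩, haC⟩ : ∃ a, (a ∈ (⊤ : Subgroup G) ∧ ∃ j : ℕ, a ^ p ^ j = 1) ∧
        a ∉ L.C := by
      by_contra hno
      push Not at hno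
      obtain ⟨t, ht, htC⟩ := L.proper
      rw [hL] at ht
      exact htC ((Subgroup.closure_le _).2 (fun a ha => hno a ha) ht)
    have haT : a ∈ L.T := hL ▸ Subgroup.subset_closure ⟨trivial, j, hj⟩
    have ha' : π a ∉ N := by
      intro hm
      refine haC (hTC ?_)
      have e : N.comap π = L'.T := Subgroup.comap_map_eq_self (by
        rw [hπ, QuotientGroup.ker_mk']; exact L'.CT)
      exact e ▸ (show a ∈ N.comap π from hm)
    have hap : π a ^ p = 1 := by
      by_contra hap
      have h1 : a ^ p ∉ L'.C := fun hc => hap (by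
        rw [← map_pow]; exact (QuotientGroup.eq_one_iff _).2 hc)
      have h2 : a ^ p ∈ L.C := by
        have h3 : QuotientGroup.mk' L.C a ^ p = 1 := by
          exact pow_eq_one_of_card hcard (Subgroup.mem_map_of_mem _ haT)
        rw [← map_pow] at h3
        exact (QuotientGroup.eq_one_iff _).1 h3
      have h5 : a ^ p ∈ L'.T := hL' ▸ Subgroup.subset_closure ⟨h2, j, by
        rw [← pow_mul, mul_comm, pow_mul, hj, one_pow]⟩
      exact h.not_pow (hLv a haT haC) (hLv' _ h5 h1)
    -- `a` centralises the section of order `p`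
    obtain ⟨x, hxN, hx1⟩ := (Subgroup.bot_or_exists_ne_one N).resolve_left fun hb => by
      rw [hb, Subgroup.card_bot] at hcard'
      exact hp.out.ne_one hcard'.symm
    have hxo : orderOf x = p := by
      refine orderOf_eq_prime ?_ hx1
      exact pow_eq_one_of_card hcard' hxN
    have hNz : Subgroup.zpowers x = N := Subgroup.eq_of_le_of_card_ge
      (Subgroup.zpowers_le.2 hxN) (by rw [Nat.card_zpowers, hxo, hcard'])
    set A := Subgroup.zpowers (π a) ⊔ N with hA
    have hNA : ∀ y ∈ N, π a * y = y * π a := by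
      have hAp : IsPGroup p A := by
        refine IsPGroup.to_sup_of_normal_right ?_ (IsPGroup.of_card (n := 1) (by rw [hcard', pow_one]))
        refine IsPGroup.of_card (n := 1) ?_
        rw [Nat.card_zpowers, pow_one]
        exact orderOf_eq_prime hap fun h1 => ha' (h1 ▸ one_mem N)
      haveI : Group.IsNilpotent A := hAp.isNilpotent
      haveI : (N.subgroupOf A).Normal := Subgroup.Normal.subgroupOf inferInstance _
      obtain ⟨⟨y, hyA⟩, ⟨hyN, hyc⟩, hy1⟩ := (Subgroup.bot_or_exists_ne_one _).resolve_left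
        (Grp.inf_center_ne_bot (N.subgroupOf A) fun hb => hx1 (by
          have h4 : (⟨x, Subgroup.mem_sup_right hxN⟩ : A) ∈ N.subgroupOf A := hxN
          rw [hb, Subgroup.mem_bot] at h4
          exact congrArg Subtype.val h4))
      have hyN' : y ∈ N := hyN
      have hy1' : y ≠ 1 := fun h1 => hy1 (Subtype.ext h1)
      have hyo : orderOf y = p := by
        refine orderOf_eq_prime ?_ hy1'
        exact pow_eq_one_of_card hcard' hyN'
      have hyz : Subgroup.zpowers y = N := Subgroup.eq_of_le_of_card_ge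
        (Subgroup.zpowers_le.2 hyN') (by rw [Nat.card_zpowers, hyo, hcard'])
      intro w hw
      obtain ⟨i, rfl⟩ : w ∈ Subgroup.zpowers y := hyz.symm ▸ hw
      exact ((show Commute (π a) y from congrArg Subtype.val (Subgroup.mem_center_iff.1 hyc
        ⟨π a, Subgroup.mem_sup_left (Subgroup.mem_zpowers _)⟩)).zpow_right i).eq
    have hNc : ∀ y ∈ N, ∀ w ∈ N, y * w = w * y := by
      intro y hy w hw
      rw [← hNz] at hy hw
      obtain ⟨i, rfl⟩ := hy
      obtain ⟨l, rfl⟩ := hw
      exact ((Commute.refl x).zpow_zpow i l).eq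
    have hAe : ∀ y ∈ A, y ^ p = 1 ∧ ∀ w ∈ A, y * w = w * y := by
      intro y hy
      obtain ⟨_, ⟨i, rfl⟩, c, hc, rfl⟩ := Subgroup.mem_sup_of_normal_right.1 hy
      have hic : Commute (π a ^ i) c := (show Commute (π a) c from hNA c hc).zpow_left i
      refine ⟨?_, fun w hw => ?_⟩
      · have h4 : c ^ p = 1 := pow_eq_one_of_card hcard' hc
        rw [hic.mul_pow, ← zpow_natCast (π a ^ i), ← zpow_mul, mul_comm i, zpow_mul, zpow_natCast,
          hap, one_zpow, one_mul]
        exact h4
      · obtain ⟨_, ⟨l, rfl⟩, d, hd, rfl⟩ := Subgroup.mem_sup_of_normal_right.1 hw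
        have h1 : Commute (π a ^ i) (π a ^ l * d) := ((Commute.refl (π a)).zpow_zpow i l).mul_right
          ((show Commute (π a) d from hNA d hd).zpow_left i)
        have h2 : Commute c (π a ^ l * d) :=
          ((show Commute (π a) c from hNA c hc).zpow_left l).symm.mul_right (hNc c hc d hd)
        exact (h1.mul_left h2).eq
    have hAT : A.comap π ≤ L.T := by
      have e : (L.T.map π).comap π = L.T := Subgroup.comap_map_eq_self (by
        rw [hπ, QuotientGroup.ker_mk']; exact (L'.CT.trans hTC).trans L.CT)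
      rw [← e]
      refine Subgroup.comap_mono (sup_le (Subgroup.zpowers_le.2 (Subgroup.mem_map_of_mem π haT)) ?_)
      exact Subgroup.map_mono (hTC.trans L.CT)
    have hb := L'.fpf_bound (A.comap π) (fun c hc => Subgroup.mem_comap.2 (by
        rw [show π c = 1 from (QuotientGroup.eq_one_iff c).2 hc]; exact one_mem A))
      (mapped_comm _ _ (by
        rw [Subgroup.map_comap_eq_self_of_surjective (QuotientGroup.mk'_surjective _)]
        exact fun y hy w hw => (hAe y hy).2 w hw))
      (fun y hy hyC => by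
        refine ⟨k, (h y ?_).trans hk⟩
        by_cases hyL : y ∈ L.C
        · refine hLv' y ?_ hyC
          have e : N.comap π = L'.T := Subgroup.comap_map_eq_self (by
            rw [hπ, QuotientGroup.ker_mk']; exact L'.CT)
          rw [← e, Subgroup.mem_comap]
          obtain ⟨_, ⟨i, rfl⟩, c, hc, hic⟩ := Subgroup.mem_sup_of_normal_right.1 hy
          rw [← hic]
          refine mul_mem ?_ hc
          by_cases hi : (p : ℤ) ∣ i
          · obtain ⟨l, rfl⟩ := hi
            show π a ^ ((p : ℤ) * l) ∈ N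
            rw [zpow_mul, zpow_natCast, hap, one_zpow]
            exact one_mem N
          · exfalso
            obtain ⟨c', hc', rfl⟩ := hc
            have h6 : (a ^ i * c')⁻¹ * y ∈ L'.C := QuotientGroup.eq.1 (by
              show π (a ^ i * c') = π y
              rw [map_mul, map_zpow, hic])
            have h7 : a ^ i * c' ∈ L.C := by
              have h8 := hTC (L'.CT h6)
              simpa using mul_mem hyL (inv_mem h8)
            have h9 : a ^ i ∈ L.C := by simpa using mul_mem h7 (inv_mem (hTC hc'))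
            have h10 : a ^ (p : ℤ) ∈ L.C := by
              have h11 : a ^ (p : ℤ) ∈ L'.C := by
                rw [zpow_natCast]
                exact (QuotientGroup.eq_one_iff _).1 (by rw [QuotientGroup.mk_pow]; exact hap)
              exact hTC (L'.CT h11)
            obtain ⟨s, t, hst⟩ : IsCoprime (p : ℤ) i :=
              ((Nat.prime_iff_prime_int.1 hp.out).coprime_iff_not_dvd).2 hi
            refine haC ?_
            have h12 := mul_mem (zpow_mem h10 s) (zpow_mem h9 t)
            rwa [← zpow_mul, ← zpow_mul, ← zpow_add, mul_comm (p : ℤ), mul_comm i, hst, zpow_one]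
              at h12
        · exact hLv y (hAT hy) hyL)
      fun y hy => (QuotientGroup.eq_one_iff _).1 (by
        rw [QuotientGroup.mk_pow]; exact (hAe _ hy).1)
    rw [Subgroup.map_comap_eq_self_of_surjective (QuotientGroup.mk'_surjective _)] at hb
    have hAN : N = A := Subgroup.eq_of_le_of_card_ge le_sup_right (hb.trans hcard'.ge)
    exact ha' (hAN.symm ▸ Subgroup.mem_sup_left (Subgroup.mem_zpowers _))
  set π := QuotientGroup.mk' L.C
  have hker : ((P : Subgroup G) ⊓ L.C) ≤ Cfsg.pCore p G := by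
    rintro x ⟨hxP, hxC⟩
    obtain ⟨j, hj⟩ := P.isPGroup' ⟨x, hxP⟩
    exact Grp.le_pCore inferInstance hC
      (Subgroup.subset_closure ⟨hxC, j, congrArg Subtype.val hj⟩)
  have e1 : Nat.card ((P : Subgroup G).map π) * Nat.card ((P : Subgroup G) ⊓ L.C : Subgroup G) =
      Nat.card (P : Subgroup G) := by
    rw [← Subgroup.relIndex_ker, QuotientGroup.ker_mk', ← Subgroup.inf_relIndex_right,
      inf_comm L.C, mul_comm, ← Subgroup.relIndex_bot_left, Subgroup.relIndex_mul_relIndex _ _ _
      bot_le inf_le_left, Subgroup.relIndex_bot_left]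
  rw [← e1]
  refine Nat.mul_le_mul ?_ (Nat.le_of_dvd Nat.card_pos (Subgroup.card_dvd_of_le hker))
  refine le_of_le_of_eq ?_ hcard
  exact Nat.le_of_dvd Nat.card_pos
    (Subgroup.card_dvd_of_le (Subgroup.map_mono (hL ▸ hPT)))

end Cfsg.Agent.Block.OneVanish
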